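import Cfsg.Agent.H997.PF.Rows
import Cfsg.Agent.H884.ElFin
import Cfsg.Agent.H124.LinCyc

/-!
# `S3522-FAM8`: the family of the nonsingular points with perp of minus type in `Ω_9(q)` (helper327)
-/

set_option autoImplicit false

namespace Cfsg.Agent.H327.PF

open Module Cfsg Cfsg.Geo Cfsg.Agent.LieClassical.OrthCore Cfsg.Agent.H884.El Cfsg.Agent.H938.Sax
  Cfsg.Agent.H997.PF Cfsg.Agent.H955 Cfsg.Agent.H954.TSing
open Cfsg.Agent.H951 (fx cm Inv)
open Cfsg.Agent.LieClassical.OmegaReindex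
open scoped MatrixGroups Matrix

universe u v

section Odd

variable {ι : Type} [Fintype ι] [DecidableEq ι] {F : Type u} [Field F] [Fintype F] {Q : QuadraticForm F (ι → F)}
  {r d m : ℕ}

/-- the stabilizer of `L` -/
def stabL (Q : QuadraticForm F (ι → F)) (L : Submodule F (ι → F)) : Subgroup (POmega F (⇑Q)) :=
  ((subspaceStabilizer L).comap ((isometryGroup F (⇑Q)).subtype.comp (Omega F (⇑Q)).subtype)).map
    (QuotientGroup.mk' (Subgroup.center (Omega F (⇑Q))))

omit [Fintype F] in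
theorem le_stabL {K : Subgroup (POmega F (⇑Q))} {L : Submodule F (ι → F)}
    (h : pre (⇑Q) K ≤ subspaceStabilizer L) : K ≤ stabL Q L := by
  intro x hx
  obtain ⟨A, rfl⟩ := QuotientGroup.mk'_surjective (Subgroup.center (Omega F (⇑Q))) x
  exact ⟨A, h (mem_pre.2 hx), rfl⟩

omit [Fintype F] in
theorem pre_stabL {K : Subgroup (POmega F (⇑Q))} {L : Submodule F (ι → F)}
    (h : pre (⇑Q) K ≤ subspaceStabilizer L) : pre (⇑Q) (stabL Q L) ≤ subspaceStabilizer L := by
  rintro _ ⟨_, ⟨A, ⟨B, hB, hBA⟩, rfl⟩, rfl⟩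
  have h1 : (QuotientGroup.mk' (Subgroup.center (Omega F (⇑Q)))) (B⁻¹ * A) ∈ K := by
    have h2 : (QuotientGroup.mk' (Subgroup.center (Omega F (⇑Q)))) (B⁻¹ * A) = 1 := by
      rw [map_mul, map_inv, hBA, inv_mul_cancel]
    rw [h2]
    exact K.one_mem
  have h2 := h (mem_pre.2 h1)
  have h3 : (((A : Omega F (⇑Q)) : isometryGroup F (⇑Q)) : GL ι F) =
      ((B : isometryGroup F (⇑Q)) : GL ι F) * (((B⁻¹ * A : Omega F (⇑Q)) : isometryGroup F (⇑Q)) : GL ι F) := by
    have h4 : A = B * (B⁻¹ * A) := by group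
    exact congrArg (fun x : Omega F (⇑Q) => ((x : isometryGroup F (⇑Q)) : GL ι F)) h4
  change ((A : isometryGroup F (⇑Q)) : GL ι F) ∈ _
  rw [h3]
  exact Subgroup.mul_mem _ hB h2

omit [Fintype F] in
/-- conjugation -/
theorem pre_conj {K : Subgroup (POmega F (⇑Q))} {L : Submodule F (ι → F)}
    (h : pre (⇑Q) K ≤ subspaceStabilizer L) (A : Omega F (⇑Q)) :
    pre (⇑Q) (K.map (MulAut.conj (QuotientGroup.mk' (Subgroup.center (Omega F (⇑Q))) A)).toMonoidHom) ≤
      subspaceStabilizer (L.map (lin ((A : isometryGroup F (⇑Q)) : GL ι F))) := by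
  rintro _ ⟨_, ⟨B, ⟨x, hx, hxB⟩, rfl⟩, rfl⟩
  obtain ⟨C, rfl⟩ := QuotientGroup.mk'_surjective (Subgroup.center (Omega F (⇑Q))) x
  have h1 : (QuotientGroup.mk' (Subgroup.center (Omega F (⇑Q)))) (A⁻¹ * B * A) ∈ K := by
    have h3 : (QuotientGroup.mk' (Subgroup.center (Omega F (⇑Q)))) A * (QuotientGroup.mk' _) C *
      ((QuotientGroup.mk' (Subgroup.center (Omega F (⇑Q)))) A)⁻¹ = (QuotientGroup.mk' _) B := hxB
    have h2 : (QuotientGroup.mk' (Subgroup.center (Omega F (⇑Q)))) (A⁻¹ * B * A) = (QuotientGroup.mk' _) C := by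
      rw [map_mul, map_mul, map_inv, ← h3]
      group
    rw [h2]
    exact hx
  have h2 := h (mem_pre.2 h1)
  rw [H884.OmegaGL.mem_subspaceStabilizer] at h2 ⊢
  rintro _ ⟨w, hw, rfl⟩
  refine ⟨((((A⁻¹ * B * A : Omega F (⇑Q)) : isometryGroup F (⇑Q)) : GL ι F) : Matrix ι ι F) *ᵥ w, h2 w hw, ?_⟩
  have h4 : A * (A⁻¹ * B * A) = B * A := by group
  have h5 := congrArg (fun x : Omega F (⇑Q) => (((x : isometryGroup F (⇑Q)) : GL ι F) : Matrix ι ι F)) h4
  change ((((A : isometryGroup F (⇑Q)) : GL ι F) : Matrix ι ι F)) *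
    ((((A⁻¹ * B * A : Omega F (⇑Q)) : isometryGroup F (⇑Q)) : GL ι F) : Matrix ι ι F) =
    (((B : isometryGroup F (⇑Q)) : GL ι F) : Matrix ι ι F) *
    (((A : isometryGroup F (⇑Q)) : GL ι F) : Matrix ι ι F) at h5
  change lin _ _ = (((B : isometryGroup F (⇑Q)) : GL ι F) : Matrix ι ι F) *ᵥ lin _ w
  rw [lin, Matrix.toLin'_apply, Matrix.toLin'_apply, Matrix.mulVec_mulVec, h5, Matrix.mulVec_mulVec]

variable (Q r) in
/-- the stabilizers of lines whose order is divisible by `r` -/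
def famL : Set (Subgroup (POmega F (⇑Q))) :=
  {M | M ≠ ⊤ ∧ r ∣ Nat.card M ∧ ∃ L : Submodule F (ι → F), finrank F L = 1 ∧
    pre (⇑Q) M ≤ subspaceStabilizer L ∧ ∀ K : Subgroup (POmega F (⇑Q)), pre (⇑Q) K ≤ subspaceStabilizer L → K ≤ M}

/-- an element of order `r` determines the line -/
theorem line_eq (hm : 3 ≤ m) (hn : Fintype.card ι = 2 * m + 1) (hQ : Nondeg Q) (hr : PP (Nat.card F) (2 * m) r)
    {H : Subgroup (GL ι F)} (hH : H ≤ isometryGroup F (⇑Q)) (hrH : r ∣ Nat.card H) :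
    ∃ g ∈ H, (∀ L : Submodule F (ι → F), finrank F L = 1 → H ≤ subspaceStabilizer L → L = fx (lin g)) ∧
      Iso Q (lin g) r ∧ ¬ IsPlus (res Q (cm (lin g))) := by
  obtain ⟨g, hg, hiso, hgr, hg1⟩ := exists_elt hH hr (by omega) hrH
  obtain ⟨hcm, hP⟩ := hiso.even_case hQ (lin_ne_one hg1) hr (even_two_mul m) (by rw [finrank_V, hn]; omega)
  refine ⟨g, hg, fun L hL hHL => ?_, hiso, hP⟩
  have hadd := hiso.finrank_add
  rw [finrank_V, hn] at hadd
  have hle := hiso.le_fx hr (inv_of_mem (hHL hg)) (by omega)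
  exact Submodule.eq_of_le_of_finrank_eq hle (by omega)

/-- `Ω` stabilises no line -/
theorem not_line_top (h2F : (2 : F) ≠ 0) (hm : 3 ≤ m) (hme : Even m) (hn : Fintype.card ι = 2 * m + 1)
    (hQ : Nondeg Q) (hD : H390.Lift.Data Q) {L : Submodule F (ι → F)} (hL : finrank F L = 1)
    {K : Subgroup (POmega F (⇑Q))} (hK : pre (⇑Q) K ≤ subspaceStabilizer L) : K ≠ ⊤ := by
  rintro rfl
  have hq := one_lt_q F
  have hq2 : Nat.card F ≠ 2 := by
    intro h
    apply h2F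
    have h5 : ((Fintype.card F : ℕ) : F) = 0 := FiniteField.cast_card_eq_zero F
    rw [← Nat.card_eq_fintype_card, h] at h5
    exact_mod_cast h5
  have hm4 : 4 ≤ m := by
    obtain ⟨k, hk⟩ := hme
    omega
  obtain ⟨r, hr⟩ := exists_pp (q := Nat.card F) (e := 2 * m) (by omega) (by omega) (by omega)
  obtain ⟨s, hs⟩ := exists_pp (q := Nat.card F) (e := m) (by omega) hm (by omega)
  obtain ⟨g, h1, h2, h3, -⟩ := exists_g (A := 1) hQ hr (even_two_mul m) (by omega) le_rfl (Or.inr ⟨h2F, by omega⟩)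
  have hr2 : r ≠ 2 := by have := hr.lt (by omega); omega
  have hrT := dvd_card_T hD h1 hr.prime hr2 h2 h3
  have hrT' : r ∣ Nat.card (pre (⇑Q) (⊤ : Subgroup (POmega F (⇑Q)))) := by
    refine dvd_trans ?_ card_dvd_pre
    rwa [Subgroup.card_top]
  obtain ⟨x, hx, hxL, hiso, hP⟩ := line_eq hm hn hQ hr pre_le hrT'
  have hLx := hxL L hL hK
  obtain ⟨y, hy, hyr, hy1, hyd⟩ := exists_g (A := 2) hQ hs hme (by omega) (by omega) (Or.inr ⟨h2F, by omega⟩)
  have hs2 : s ≠ 2 := by have := hs.lt (by omega); omega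
  obtain ⟨y', rfl⟩ := exists_omega hD hy (hs.prime.odd_of_ne_two hs2) hyr
  have hyiso : Iso Q (lin ((y' : isometryGroup F (⇑Q)) : GL ι F)) s := by
    refine Iso.mk' hs (by omega) ?_ (lin_iso le_rfl hy)
    rw [← H251.GeoCard.toLin_pow, hyr]; exact lin_one
  have hyP := hyiso.even_two hQ hs hme hyd
  have hadd := hyiso.finrank_add
  rw [finrank_V, hn] at hadd
  have hle := hyiso.le_fx hs (inv_of_mem (hK (mem_pre.2 (Subgroup.mem_top _)))) (by omega)
  have hLy : L = fx (lin ((y' : isometryGroup F (⇑Q)) : GL ι F)) :=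
    Submodule.eq_of_le_of_finrank_eq hle (by omega)
  apply hP
  rw [← perp_fx hQ hiso.iso hiso.ne0 hiso.pow, ← hLx, hLy, perp_fx hQ hyiso.iso hyiso.ne0 hyiso.pow]
  exact hyP

theorem isFam_odd (h2F : (2 : F) ≠ 0) (hm : 3 ≤ m) (hme : Even m) (hn : Fintype.card ι = 2 * m + 1)
    (hQ : Nondeg Q) (hD : H390.Lift.Data Q) (hr : PP (Nat.card F) (2 * m) r)
    (hres : ∀ K : Subgroup (POmega F (⇑Q)), K ≠ ⊤ → Kill (POmega F (⇑Q)) d K ∨
      ∃ L : Submodule F (ι → F), finrank F L = 1 ∧ pre (⇑Q) K ≤ subspaceStabilizer L) :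
    IsFam (POmega F (⇑Q)) d (famL Q r) := by
  have hq := one_lt_q F
  have hlt := hr.lt (by omega)
  have hr2 : r ≠ 2 := by omega
  have := Fact.mk hr.prime
  have hfinP : Finite (POmega F (⇑Q)) := inferInstance
  obtain ⟨g, h1, h2, h3, -⟩ := exists_g (A := 1) hQ hr (even_two_mul m) (by omega) le_rfl (Or.inr ⟨h2F, by omega⟩)
  have hrT := dvd_card_T hD h1 hr.prime hr2 h2 h3
  refine IsFam.of_prime hr.prime hrT ?_ _ (fun M hM => hM.1) ?_ (fun M hM => hM.2.1) ?_ ?_
  · intro P hP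
    obtain ⟨S, hS⟩ := hP.exists_le_sylow
    have hScyc : IsCyclic S := H124.LinCyc.isCyclic_sylow_of_gl (F := F) (ι := ι) (e := 2 * m) hr2
      (by omega) (fun j => by rw [← Nat.card_eq_fintype_card]; exact hr.dvd_iff Finite.one_lt_card.le j)
      (by rw [hn]; omega)
      ((isometryGroup F (⇑Q)).subtype.comp (Omega F (⇑Q)).subtype)
      ((Subgroup.subtype_injective _).comp (Subgroup.subtype_injective _))
      (QuotientGroup.mk' (Subgroup.center (Omega F (⇑Q)))) (QuotientGroup.mk'_surjective _) S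
    exact isCyclic_of_injective (Subgroup.inclusion hS) (Subgroup.inclusion_injective hS)
  · rintro M ⟨hM1, hM2, L, hL, hML, hmax⟩ t
    obtain ⟨A, rfl⟩ := QuotientGroup.mk'_surjective (Subgroup.center (Omega F (⇑Q))) t
    have hpres := pre_conj hML A
    have hinj : Function.Injective (lin ((A : isometryGroup F (⇑Q)) : GL ι F)) := by
      intro v w hvw
      rw [lin, Matrix.toLin'_apply, Matrix.toLin'_apply] at hvw
      have h5 := congrArg (fun z => (((((A : isometryGroup F (⇑Q)) : GL ι F))⁻¹ : GL ι F) : Matrix ι ι F) *ᵥ z) hvw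
      simpa [Matrix.mulVec_mulVec] using h5
    have hL' : finrank F (L.map (lin ((A : isometryGroup F (⇑Q)) : GL ι F))) = 1 := by
      rw [← hL]
      exact (LinearEquiv.finrank_eq (Submodule.equivMapOfInjective _ hinj L)).symm
    refine ⟨not_line_top h2F hm hme hn hQ hD hL' hpres, ?_, _, hL', hpres, ?_⟩
    · rwa [Subgroup.card_map_of_injective (MulAut.conj _).injective]
    · intro K hK
      have h1 := pre_conj hK A⁻¹
      have h2 : (L.map (lin ((A : isometryGroup F (⇑Q)) : GL ι F))).map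
          (lin (((A⁻¹ : Omega F (⇑Q)) : isometryGroup F (⇑Q)) : GL ι F)) = L := by
        rw [← Submodule.map_comp]
        have h3 : (lin (((A⁻¹ : Omega F (⇑Q)) : isometryGroup F (⇑Q)) : GL ι F)).comp
            (lin ((A : isometryGroup F (⇑Q)) : GL ι F)) = LinearMap.id := by
          rw [lin, lin, ← Matrix.toLin'_mul, ← Matrix.toLin'_one]
          congr 1
          have h4 : A⁻¹ * A = 1 := inv_mul_cancel A
          exact congrArg (fun x : Omega F (⇑Q) => (((x : isometryGroup F (⇑Q)) : GL ι F) : Matrix ι ι F)) h4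
        rw [h3, Submodule.map_id]
      rw [h2] at h1
      have h3 := hmax _ h1
      set π := QuotientGroup.mk' (Subgroup.center (Omega F (⇑Q))) with hπ
      intro x hx
      refine ⟨(π A)⁻¹ * x * π A, h3 ⟨x, hx, ?_⟩, ?_⟩
      · change π A⁻¹ * x * (π A⁻¹)⁻¹ = _
        rw [map_inv, inv_inv]
      · change π A * ((π A)⁻¹ * x * π A) * (π A)⁻¹ = x
        group
  · rintro x hx M ⟨-, -, L, hL, hML, hmax⟩ M' ⟨-, -, L', hL', hML', hmax'⟩ hxM hxM'
    have hK : r ∣ Nat.card (pre (⇑Q) (Subgroup.zpowers x)) := by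
      refine dvd_trans ?_ card_dvd_pre
      rw [Nat.card_zpowers, hx]
    have hmono : ∀ {R S : Subgroup (POmega F (⇑Q))}, R ≤ S → pre (⇑Q) R ≤ pre (⇑Q) S := fun h =>
      Subgroup.map_mono (Subgroup.map_mono (Subgroup.comap_mono h))
    obtain ⟨g, hg, hgL, -, -⟩ := line_eq hm hn hQ hr pre_le hK
    have e1 := hgL L hL ((hmono (Subgroup.zpowers_le.2 hxM)).trans hML)
    have e2 := hgL L' hL' ((hmono (Subgroup.zpowers_le.2 hxM')).trans hML')
    have e3 : L = L' := e1.trans e2.symm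
    subst e3
    exact le_antisymm (hmax' _ hML) (hmax _ hML')
  · intro K hK
    rcases hres K hK with h | ⟨L, hL, hKL⟩
    · exact Or.inl h
    · by_cases hrK : r ∣ Nat.card K
      · right
        refine ⟨stabL Q L, ⟨not_line_top h2F hm hme hn hQ hD hL (pre_stabL hKL),
          hrK.trans (Subgroup.card_dvd_of_le (le_stabL hKL)), L, hL, pre_stabL hKL, fun K' hK' =>
          le_stabL hK'⟩, le_stabL hKL⟩
      · exact Or.inl (.pgap ⟨r, hr.prime, hrT, hrK⟩)

end Odd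

/-- **`Ω_9(q)`** (any `Ω_{2m+1}(q)`, `m` even): the points with perp of minus type. -/
theorem fam_odd {F : Type} [Field F] [Fintype F] {m d : ℕ} (hm : 3 ≤ m) (hme : Even m)
    (hodd : Odd (Fintype.card F))
    (hres : ∀ K : Subgroup (POmega F (⇑(quadOdd m F))), K ≠ ⊤ → Kill (POmega F (⇑(quadOdd m F))) d K ∨
      ∃ v : Unit ⊕ (Fin m ⊕ Fin m) → F, quadOdd m F v ≠ 0 ∧
        pre (⇑(quadOdd m F)) K ≤ subspaceStabilizer (Submodule.span F {v})) :
    ∃ 𝓜, IsFam (POmega F (⇑(quadOdd m F))) d 𝓜 := by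
  have h2 := H390.two_ne_zero_of_odd hodd
  have hq := one_lt_q F
  obtain ⟨r, hr⟩ := exists_pp (q := Nat.card F) (e := 2 * m) (by omega) (by omega) (by
    obtain ⟨k, hk⟩ := hme
    omega)
  refine ⟨_, isFam_odd (r := r) h2 hm hme (card_odd m) (nondeg_iff.2 (quadOdd_nondegenerate h2)) (data_odd hm h2) hr
    fun K hK => ?_⟩
  rcases hres K hK with h | ⟨v, hv, hKv⟩
  · exact Or.inl h
  · refine Or.inr ⟨_, finrank_span_singleton (K := F) ?_, hKv⟩
    rintro rfl
    exact hv (QuadraticMap.map_zero _)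

theorem fam_o9 {F : Type} [Field F] [Fintype F] {d : ℕ} (hodd : Odd (Fintype.card F))
    (hres : ∀ K : Subgroup (POmega F (quadFormOdd 4 F)), K ≠ ⊤ → Kill (POmega F (quadFormOdd 4 F)) d K ∨
      ∃ v : Unit ⊕ (Fin 4 ⊕ Fin 4) → F, quadFormOdd 4 F v ≠ 0 ∧
        pre (quadFormOdd 4 F) K ≤ subspaceStabilizer (Submodule.span F {v})) :
    ∃ 𝓜, IsFam (POmega F (quadFormOdd 4 F)) d 𝓜 := by
  have h := fam_odd (F := F) (m := 4) (d := d) (by omega) (by decide) hodd
  have hc : ∀ v, quadOdd 4 F v = quadFormOdd 4 F v := fun v => congrFun (coe_quadOdd 4 F) v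
  simp only [hc] at h
  rw [coe_quadOdd] at h
  exact h hres

end Cfsg.Agent.H327.PF
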